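import Cfsg.Agent.LyG2x94.LG.Check0
import Cfsg.Agent.LyG2x94.LG.Check1
import Cfsg.Agent.LyG2x94.LG.Check2
import Cfsg.Agent.LyG2x94.LG.Check3
import Cfsg.Agent.LyG2x94.LG.Check4

/-!
# Certificate data
-/

set_option autoImplicit false
set_option maxRecDepth 100000

namespace Cfsg.Agent.LyG2x94.LG

open Cfsg.Agent.CosetEnum Cfsg.Agent.J4Rep94

theorem dok0 : allRange sys.checkDef 0 2048 = true := by decide +kernel

theorem dok1 : allRange sys.checkDef 2048 2048 = true := by decide +kernel

theorem dok2 : allRange sys.checkDef 4096 2048 = true := by decide +kernel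

theorem dok3 : allRange sys.checkDef 6144 2048 = true := by decide +kernel

theorem dok4 : allRange sys.checkDef 8192 2048 = true := by decide +kernel

theorem dok5 : allRange sys.checkDef 10240 2048 = true := by decide +kernel

theorem dok6 : allRange sys.checkDef 12288 2048 = true := by decide +kernel

theorem dok7 : allRange sys.checkDef 14336 2048 = true := by decide +kernel

theorem dok8 : allRange sys.checkDef 16384 931 = true := by decide +kernel

def fchunks : List (ℕ × ℕ) := [(128, fv0), (128, fv1), (128, fv2), (128, fv3), (128, fv4), (128, fv5), (128, fv6), (128, fv7), (128, fv8), (128, fv9), (128, fv10), (128, fv11), (128, fv12), (128, fv13), (128, fv14), (128, fv15), (128, fv16), (128, fv17), (128, fv18), (128, fv19), (128, fv20), (128, fv21), (128, fv22), (128, fv23), (128, fv24), (128, fv25), (128, fv26), (128, fv27), (128, fv28), (128, fv29), (128, fv30), (128, fv31), (128, fv32), (128, fv33), (128, fv34), (128, fv35), (128, fv36), (128, fv37), (128, fv38), (128, fv39), (128, fv40), (128, fv41), (128, fv42), (128, fv43), (128, fv44), (128, fv45), (128, fv46), (128, fv47),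 (128, fv48), (128, fv49), (128, fv50), (128, fv51), (128, fv52), (128, fv53), (128, fv54), (128, fv55), (128, fv56), (128, fv57), (128, fv58), (128, fv59), (128, fv60), (128, fv61), (128, fv62), (128, fv63), (128, fv64), (128, fv65), (128, fv66), (128, fv67), (128, fv68), (128, fv69), (128, fv70), (128, fv71), (128, fv72), (128, fv73), (128, fv74), (128, fv75), (128, fv76), (128, fv77), (128, fv78), (128, fv79), (128, fv80), (128, fv81), (128, fv82), (128, fv83), (128, fv84), (128, fv85), (128, fv86), (128, fv87), (128, fv88), (128, fv89), (128, fv90), (128, fv91), (128, fv92), (128, fv93), (128, fv94), (128, fv95), (128, fv96), (128, fv97), (128, fv98), (128, fv99), (128, fv100), (128, fv101), (128, fv102), (128, fv103), (128, fv104), (128, fv105), (128, fv106), (128, fv107), (128, fv108), (128, fv109), (128, fv110), (128, fv111), (128, fv112), (128, fv113), (128, fv114), (128, fv115), (128, fv116), (128, fv117), (128, fv118), (128, fv119), (128, fv120), (128, fv121), (128, fv122), (128, fv123), (128, fv124), (128, fv125), (128, fv126), (128, fv127), (128, fv128), (128, fv129), (128,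 fv130), (128, fv131), (128, fv132), (128, fv133), (128, fv134), (128, fv135), (128, fv136), (128, fv137), (128, fv138), (128, fv139), (128, fv140), (128, fv141), (128, fv142), (128, fv143), (128, fv144), (128, fv145), (128, fv146), (128, fv147), (128, fv148), (128, fv149), (128, fv150), (128, fv151), (128, fv152), (128, fv153), (128, fv154), (128, fv155), (128, fv156), (128, fv157), (128, fv158), (128, fv159), (128, fv160), (128, fv161), (128, fv162), (128, fv163), (128, fv164), (128, fv165), (128, fv166), (128, fv167), (128, fv168), (128, fv169), (128, fv170), (128, fv171), (128, fv172), (128, fv173), (128, fv174), (128, fv175), (128, fv176), (29, fv177)]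

theorem defsOK : sys.DefsOK 0 [2048,2048,2048,2048,2048,2048,2048,2048,931] := ⟨dok0, dok1, dok2, dok3, dok4, dok5, dok6, dok7, dok8, trivial⟩

theorem factsOK : sys.FactsOK 17315 fchunks := ⟨fok0, fok1, fok2, fok3, fok4, fok5, fok6, fok7, fok8, fok9, fok10, fok11, fok12, fok13, fok14, fok15, fok16, fok17, fok18, fok19, fok20, fok21, fok22, fok23, fok24, fok25, fok26, fok27, fok28, fok29, fok30, fok31, fok32, fok33, fok34, fok35, fok36, fok37, fok38, fok39, fok40, fok41, fok42, fok43, fok44, fok45, fok46, fok47, fok48, fok49, fok50, fok51, fok52, fok53, fok54, fok55, fok56, fok57, fok58, fok59, fok60, fok61, fok62, fok63, fok64, fok65, fok66, fok67, fok68, fok69, fok70, fok71, fok72, fok73, fok74, fok75, fok76, fok77, fok78, fok79, fok80, fok81, fok82, fok83, fok84, fok85, fok86, fok87, fok88, fok89, fok90, fok91, fok92, fok93, fok94, fok95, fok96, fok97, fok98, fok99, fok100, fok101, fok102, fok103, fok104, fok105, fok106, fok107, fok108, fok109, fok110, fok111, fok112, fok113, fok114, fok115, fok116, fok117, fok118, fok119, fok120, fok121, fok122, fok123, fok124, fok125, fok126, fok127,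 fok128, fok129, fok130, fok131, fok132, fok133, fok134, fok135, fok136, fok137, fok138, fok139, fok140, fok141, fok142, fok143, fok144, fok145, fok146, fok147, fok148, fok149, fok150, fok151, fok152, fok153, fok154, fok155, fok156, fok157, fok158, fok159, fok160, fok161, fok162, fok163, fok164, fok165, fok166, fok167, fok168, fok169, fok170, fok171, fok172, fok173, fok174, fok175, fok176, fok177, trivial⟩

theorem rules_ok : sys.rules.all (fun R => R.check sys rels subs) = true := by decide +kernel

def mchunks : List (ℕ × ℕ) := [(24, mv0), (24, mv1), (24, mv2), (24, mv3), (24, mv4), (24, mv5), (24, mv6), (24, mv7), (24, mv8), (24, mv9), (24, mv10), (24, mv11), (24, mv12), (24, mv13), (24, mv14), (24, mv15), (24, mv16), (24, mv17), (24, mv18), (24, mv19), (24, mv20), (24, mv21), (24, mv22), (24, mv23), (24, mv24), (24, mv25), (24, mv26), (24, mv27), (24, mv28), (24, mv29), (24, mv30), (24, mv31), (24, mv32), (24, mv33), (24, mv34), (24, mv35), (24, mv36), (24, mv37), (24, mv38), (24, mv39), (24, mv40), (24, mv41), (24, mv42), (24, mv43), (24, mv44), (24, mv45), (24, mv46), (24, mv47),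 (24, mv48), (24, mv49), (24, mv50), (24, mv51), (24, mv52), (24, mv53), (24, mv54), (24, mv55), (24, mv56), (24, mv57), (24, mv58), (24, mv59), (24, mv60), (24, mv61), (24, mv62), (24, mv63), (24, mv64), (24, mv65), (24, mv66), (24, mv67), (24, mv68), (24, mv69), (24, mv70), (24, mv71), (24, mv72), (24, mv73), (24, mv74), (24, mv75), (24, mv76), (24, mv77), (24, mv78), (24, mv79), (24, mv80), (24, mv81), (24, mv82), (24, mv83), (24, mv84), (24, mv85), (24, mv86), (24, mv87), (24, mv88), (24, mv89), (24, mv90), (24, mv91), (24, mv92), (24, mv93), (24, mv94), (24, mv95), (24, mv96), (24, mv97), (24, mv98), (24, mv99), (24, mv100), (24, mv101), (24, mv102), (24, mv103), (24, mv104), (24, mv105), (24, mv106), (24, mv107), (24, mv108), (24, mv109), (24, mv110), (24, mv111), (24, mv112), (24, mv113), (24, mv114), (24, mv115), (24, mv116), (24, mv117), (24, mv118), (24, mv119), (24, mv120), (24, mv121), (24, mv122), (24, mv123), (24, mv124), (24, mv125), (24, mv126), (24, mv127), (24, mv128), (24, mv129), (24, mv130), (24, mv131), (24, mv132), (24, mv133), (24, mv134), (24, mv135), (24, mv136),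 (24, mv137), (24, mv138), (24, mv139), (24, mv140), (24, mv141), (24, mv142), (24, mv143), (24, mv144), (24, mv145), (24, mv146), (24, mv147), (24, mv148), (24, mv149), (24, mv150), (24, mv151), (24, mv152), (24, mv153), (24, mv154), (24, mv155), (24, mv156), (24, mv157), (24, mv158), (24, mv159), (24, mv160), (24, mv161), (18, mv162)]

theorem mainOK : MainOK sys 40000 reps 3906 gens 0 mchunks := ⟨mok0, mok1, mok2, mok3, mok4, mok5, mok6, mok7, mok8, mok9, mok10, mok11, mok12, mok13, mok14, mok15, mok16, mok17, mok18, mok19, mok20, mok21, mok22, mok23, mok24, mok25, mok26, mok27, mok28, mok29, mok30, mok31, mok32, mok33, mok34, mok35, mok36, mok37, mok38, mok39, mok40, mok41, mok42, mok43, mok44, mok45, mok46, mok47, mok48, mok49, mok50, mok51, mok52, mok53, mok54, mok55, mok56, mok57, mok58, mok59, mok60, mok61, mok62, mok63, mok64, mok65, mok66, mok67, mok68, mok69, mok70, mok71, mok72, mok73, mok74, mok75, mok76, mok77, mok78, mok79, mok80, mok81, mok82, mok83, mok84, mok85, mok86, mok87, mok88, mok89, mok90, mok91, mok92, mok93, mok94, mok95, mok96, mok97, mok98, mok99, mok100,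 mok101, mok102, mok103, mok104, mok105, mok106, mok107, mok108, mok109, mok110, mok111, mok112, mok113, mok114, mok115, mok116, mok117, mok118, mok119, mok120, mok121, mok122, mok123, mok124, mok125, mok126, mok127, mok128, mok129, mok130, mok131, mok132, mok133, mok134, mok135, mok136, mok137, mok138, mok139, mok140, mok141, mok142, mok143, mok144, mok145, mok146, mok147, mok148, mok149, mok150, mok151, mok152, mok153, mok154, mok155, mok156, mok157, mok158, mok159, mok160, mok161, mok162, trivial⟩

theorem result_index {G : Type} [Group G] (val : ℕ → G) (h9 : val 9 = 1)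
    (hrels : ∀ W ∈ rels, evalWord val W = 1) :
    (wspan val subs).relIndex (wspan val gens) ≠ 0 ∧ (wspan val subs).relIndex (wspan val gens) ≤ 3906 :=
  relIndex_le_of_cert (letters_of (S := sys) rfl (by decide +kernel) h9 hrels) hrels subs rules_ok [2048,2048,2048,2048,2048,2048,2048,2048,931] fchunks mchunks defsOK (by decide)
    factsOK (hfs := (by decide +kernel : 17315 + (fchunks.map Prod.fst).sum = 40000)) gens mainOK (by decide +kernel) (by decide) (by decide +kernel)

end Cfsg.Agent.LyG2x94.LG
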